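import Mathlib
import Cfsg.Agent.H844.K5.Base
import Cfsg.Agent.H590.OddPrincipal
import Cfsg.Agent.H703.Lat.Basic
import Cfsg.Agent.Blocks.UniqueBlock
import Cfsg.Agent.SylowL5.Quot
import Cfsg.Agent.SolvableStructure.KegelNormal
import Cfsg.Agent.H30.OneClass
import Cfsg.Agent.Lib.Cores
import Cfsg.Agent.H126.K5.Quot
import Cfsg.Agent.H261.K5.KFour

/-!
# S4874, `p = 2`: RED-A

`redA` : `O_{2'}(G) = 1`, no subgroup of index 2, `k(B₀) = 5`, `l(B₀) ≥ 2`, `16 ∣ |G|` imply `O_2(G) = 1`
(from QUOT and KFOUR).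
-/

set_option autoImplicit false

namespace Cfsg.Agent.H583.K5

open Cfsg Subgroup Cfsg.Agent.H844.K5
open scoped commutatorElement

universe u

section Group

/-- Commutation in a group with a central elementary abelian subgroup of index four. -/
theorem comm_cases {P : Type*} [Group P] (Z : Subgroup P) (hZ : ∀ z ∈ Z, ∀ x, z * x = x * z)
    (hz2 : ∀ z ∈ Z, z * z = 1) (hidx : Z.index = 4) :
    ∃ c ∈ Z, ∀ x y : P, x * y = y * x ∨ x * y = c * (y * x) := by
  classical
  by_cases hab : ∀ x y : P, x * y = y * x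
  · exact ⟨1, Z.one_mem, fun x y => Or.inl (hab x y)⟩
  push Not at hab
  obtain ⟨a, b, hab⟩ := hab
  -- the cosets of `1, a, b, ab`
  let g : Fin 4 → P := ![1, a, b, a * b]
  let f : Fin 4 → P ⧸ Z := fun i => ((g i : P) : P ⧸ Z)
  have h1 : a ∉ Z := fun h => hab (hZ a h b)
  have h2 : b ∉ Z := fun h => hab (hZ b h a).symm
  have h3 : a⁻¹ * b ∉ Z := by
    intro h
    apply hab
    have h4 := hZ _ h a
    have h5 : b = a * (a⁻¹ * b) := by group
    calc a * b = a * (a * (a⁻¹ * b)) := by rw [← h5]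
      _ = a * ((a⁻¹ * b) * a) := by rw [h4]
      _ = b * a := by group
  have h4 : a * b ∉ Z := by
    intro h
    apply hab
    have h5 := hZ _ h a
    calc a * b = a⁻¹ * (a * (a * b)) := by group
      _ = a⁻¹ * ((a * b) * a) := by rw [← h5]
      _ = b * a := by group
  have h5 : b⁻¹ * (a * b) ∉ Z := by
    intro h
    apply hab
    have h6 := hZ _ h b
    calc a * b = b * (b⁻¹ * (a * b)) := by group
      _ = (b⁻¹ * (a * b)) * b := by rw [h6]
      _ = b⁻¹ * (a * b) * b := rfl
      _ = b * (b⁻¹ * (a * b)) := h6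
      _ = b * a := by
        have h7 : b⁻¹ * (a * b) = a := by
          have h8 : (b⁻¹ * (a * b)) * b⁻¹ = b⁻¹ * (b⁻¹ * (a * b)) := hZ _ h b⁻¹
          have h9 : b⁻¹ * (a * b) * b⁻¹ = b⁻¹ * a := by group
          rw [h9] at h8
          exact (mul_left_cancel h8).symm
        rw [h7]
  have hfin : Finite (P ⧸ Z) := by
    refine Nat.finite_of_card_ne_zero ?_
    rw [← index_eq_card, hidx]
    norm_num
  have hinj : Function.Injective f := by
    intro i j hij
    have hij' : (g i)⁻¹ * g j ∈ Z := QuotientGroup.eq.1 hij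
    fin_cases i <;> fin_cases j
    · rfl
    · exact absurd (show (1 : P)⁻¹ * a ∈ Z from hij') (by rwa [inv_one, one_mul])
    · exact absurd (show (1 : P)⁻¹ * b ∈ Z from hij') (by rwa [inv_one, one_mul])
    · exact absurd (show (1 : P)⁻¹ * (a * b) ∈ Z from hij') (by rwa [inv_one, one_mul])
    · exact absurd (show a⁻¹ * 1 ∈ Z from hij') (by rwa [mul_one, inv_mem_iff])
    · rfl
    · exact absurd (show a⁻¹ * b ∈ Z from hij') h3
    · exact absurd (show a⁻¹ * (a * b) ∈ Z from hij') (by rwa [inv_mul_cancel_left])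
    · exact absurd (show b⁻¹ * 1 ∈ Z from hij') (by rwa [mul_one, inv_mem_iff])
    · exact absurd (Z.inv_mem (show b⁻¹ * a ∈ Z from hij')) (by rwa [mul_inv_rev, inv_inv])
    · rfl
    · exact absurd (show b⁻¹ * (a * b) ∈ Z from hij') h5
    · exact absurd (show (a * b)⁻¹ * 1 ∈ Z from hij') (by rwa [mul_one, inv_mem_iff])
    · exact absurd (Z.inv_mem (show (a * b)⁻¹ * a ∈ Z from hij')) (by rwa [mul_inv_rev, inv_inv, inv_mul_cancel_left])
    · exact absurd (Z.inv_mem (show (a * b)⁻¹ * b ∈ Z from hij')) (by rwa [mul_inv_rev, inv_inv])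
    · rfl
  have hcard : Nat.card (Fin 4) = Nat.card (P ⧸ Z) := by
    rw [← index_eq_card, hidx, Nat.card_fin]
  have hsurj : Function.Surjective f :=
    ((Nat.bijective_iff_injective_and_card f).2 ⟨hinj, hcard⟩).2
  have key : ∀ x : P, ∃ z ∈ Z, x = z ∨ x = a * z ∨ x = b * z ∨ x = a * b * z := by
    intro x
    obtain ⟨i, hi⟩ := hsurj (x : P ⧸ Z)
    have hi' : (g i)⁻¹ * x ∈ Z := QuotientGroup.eq.1 hi
    fin_cases i
    · exact ⟨(1 : P)⁻¹ * x, hi', Or.inl (by group)⟩
    · exact ⟨a⁻¹ * x, hi', Or.inr (Or.inl (by group))⟩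
    · exact ⟨b⁻¹ * x, hi', Or.inr (Or.inr (Or.inl (by group)))⟩
    · exact ⟨(a * b)⁻¹ * x, hi', Or.inr (Or.inr (Or.inr (by group)))⟩
  obtain ⟨c, hc, hba⟩ : ∃ c ∈ Z, b * a = a * b * c := by
    obtain ⟨z, hz, h | h | h | h⟩ := key (b * a)
    · exfalso
      apply hab
      have h6 := hZ _ (h ▸ hz : b * a ∈ Z) b
      exact (mul_left_cancel (a := b) (by rw [← h6]; group)).symm
    · exfalso
      apply h2
      have h6 : b = a * z * a⁻¹ := by rw [← h]; group
      rw [h6, mul_assoc, hZ z hz a⁻¹, mul_inv_cancel_left]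
      exact hz
    · exact absurd (mul_left_cancel h ▸ hz) h1
    · exact ⟨z, hz, h⟩
  have hcc := hz2 c hc
  have hca : ∀ x, c * x = x * c := hZ c hc
  have hab' : a * b = c * (b * a) := by
    rw [hba, ← hca, ← mul_assoc c c, hcc, one_mul]
  have hba' : b * a = c * (a * b) := by rw [hba, ← hca]
  refine ⟨c, hc, ?_⟩
  -- the relation is stable under central factors
  have stab : ∀ x y : P, (x * y = y * x ∨ x * y = c * (y * x)) → ∀ z ∈ Z, ∀ w ∈ Z,
      (x * z) * (y * w) = (y * w) * (x * z) ∨ (x * z) * (y * w) = c * ((y * w) * (x * z)) := by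
    intro x y h z hz w hw
    have e1 : (x * z) * (y * w) = (x * y) * (z * w) := by
      calc (x * z) * (y * w) = x * (z * y) * w := by group
        _ = x * (y * z) * w := by rw [hZ z hz y]
        _ = _ := by group
    have e2 : (y * w) * (x * z) = (y * x) * (z * w) := by
      calc (y * w) * (x * z) = y * (w * x) * z := by group
        _ = y * (x * w) * z := by rw [hZ w hw x]
        _ = y * x * (w * z) := by group
        _ = _ := by rw [hZ w hw z]
    rw [e1, e2]
    rcases h with h | h
    · left; rw [h]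
    · right; rw [h]; group
  have base : ∀ x ∈ ({1, a, b, a * b} : Set P), ∀ y ∈ ({1, a, b, a * b} : Set P),
      x * y = y * x ∨ x * y = c * (y * x) := by
    intro x hx y hy
    simp only [Set.mem_insert_iff, Set.mem_singleton_iff] at hx hy
    rcases hx with rfl | rfl | rfl | rfl <;> rcases hy with rfl | rfl | rfl | rfl
    · left; rfl
    · left; rw [one_mul, mul_one]
    · left; rw [one_mul, mul_one]
    · left; rw [one_mul, mul_one]
    · left; rw [one_mul, mul_one]
    · left; rfl
    · right; exact hab'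
    · right
      calc x * (x * b) = x * (c * (b * x)) := by rw [← hab']
        _ = x * c * (b * x) := by group
        _ = c * x * (b * x) := by rw [hca]
        _ = c * (x * b * x) := by group
    · left; rw [one_mul, mul_one]
    · right; exact hba'
    · left; rfl
    · right
      calc x * (a * x) = (x * a) * x := by group
        _ = c * (a * x) * x := by rw [← hba']
        _ = c * (a * x * x) := by group
    · left; rw [one_mul, mul_one]
    · right
      calc y * b * y = y * (b * y) := by group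
        _ = y * (c * (y * b)) := by rw [← hba']
        _ = y * c * (y * b) := by group
        _ = c * y * (y * b) := by rw [hca]
        _ = c * (y * (y * b)) := by group
    · right
      calc a * y * y = c * (y * a) * y := by rw [← hab']
        _ = c * (y * (a * y)) := by group
    · left; rfl
  have key' : ∀ x : P, ∃ x₀ ∈ ({1, a, b, a * b} : Set P), ∃ z ∈ Z, x = x₀ * z := by
    intro x
    obtain ⟨z, hz, h | h | h | h⟩ := key x
    · exact ⟨1, by simp, z, hz, by rw [h, one_mul]⟩
    · exact ⟨a, by simp, z, hz, h⟩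
    · exact ⟨b, by simp, z, hz, h⟩
    · exact ⟨a * b, by simp, z, hz, h⟩
  intro x y
  obtain ⟨x₀, hx₀, z, hz, rfl⟩ := key' x
  obtain ⟨y₀, hy₀, w, hw, rfl⟩ := key' y
  exact stab x₀ y₀ (base x₀ hx₀ y₀ hy₀) z hz w hw

variable {G : Type u} [Group G] [Finite G]

/-- A subgroup of index two from a normal subgroup `N` with `|G : N| ≡ 2 mod 4`. -/
theorem exists_index_two (N : Subgroup G) [N.Normal] (h : N.index % 4 = 2) :
    ∃ K : Subgroup G, K.index = 2 := by
  have hc : Nat.card (G ⧸ N) = N.index := (index_eq_card N).symm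
  have hmin : (Nat.card (G ⧸ N)).minFac = 2 := by
    rw [Nat.minFac_eq_two_iff, hc]
    omega
  let P : Sylow 2 (G ⧸ N) := default
  have hP : Nat.card P = 2 := by
    obtain ⟨k, hk⟩ := IsPGroup.iff_card.1 P.isPGroup'
    have h1 := (P : Subgroup (G ⧸ N)).card_mul_index
    have h2 := P.not_dvd_index
    rw [hk] at h1 ⊢
    match k, h1 with
    | 0, h1 => rw [pow_zero, one_mul, hc] at h1; omega
    | 1, _ => rfl
    | k + 2, h1 =>
      exfalso
      rw [pow_add, hc] at h1
      have : 4 ∣ N.index := ⟨2 ^ k * (P : Subgroup (G ⧸ N)).index, by rw [← h1]; ring⟩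
      omega
  have hcyc : IsCyclic P := isCyclic_of_prime_card hP
  have h3 := IsCyclic.isComplement' hmin hcyc
  have h4 := h3.symm.index_eq_card
  rw [hP] at h4
  refine ⟨(MonoidHom.transferSylow P (IsCyclic.normalizer_le_centralizer hmin hcyc)).ker.comap
    (QuotientGroup.mk' N), ?_⟩
  rw [index_comap_of_surjective _ (QuotientGroup.mk'_surjective N)]
  exact h4

omit [Finite G] in
/-- A Sylow subgroup is contained in the normal subgroups of index prime to `p`. -/
theorem sylow_le {p : ℕ} [hp : Fact p.Prime] (P : Sylow p G) (N : Subgroup G) [N.Normal] (h : ¬ p ∣ N.index) :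
    (P : Subgroup G) ≤ N := by
  intro x hx
  have h7 : (x : G ⧸ N) = 1 := by
    have h8 : orderOf (x : G ⧸ N) ∣ N.index := by
      rw [index_eq_card]
      exact orderOf_dvd_natCard _
    obtain ⟨k, hk⟩ := P.isPGroup' ⟨x, hx⟩
    have h9 : (x : G ⧸ N) ^ p ^ k = 1 := by
      have h10 : x ^ p ^ k = 1 := congrArg Subtype.val hk
      have := congrArg (QuotientGroup.mk' N) h10
      simpa using this
    obtain ⟨j, -, hj⟩ := (Nat.dvd_prime_pow hp.out).1 (orderOf_dvd_of_pow_eq_one h9)
    rcases Nat.eq_zero_or_pos j with rfl | hpos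
    · rw [pow_zero] at hj
      exact orderOf_eq_one_iff.1 hj
    · exact absurd ((dvd_pow_self p hpos.ne').trans (hj ▸ h8)) h
  exact (QuotientGroup.eq_one_iff x).1 h7

/-- **The Sylow 2-subgroups are abelian.** -/
theorem sylow_comm (P : Sylow 2 G) (N : Subgroup G) [hN : N.Normal]
    (hmin : ∀ K : Subgroup G, K.Normal → K ≤ N → K ≠ ⊥ → K = N) (h4 : 2 < Nat.card N)
    (hN2 : ∀ x ∈ N, x * x = 1)
    (hC : ¬ 2 ∣ (centralizer (N : Set G)).index) (hidx : N.relIndex (P : Subgroup G) = 4) :
    ∀ x ∈ (P : Subgroup G), ∀ y ∈ (P : Subgroup G), x * y = y * x := by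
  classical
  have : Fact (Nat.Prime 2) := ⟨Nat.prime_two⟩
  have hPC : (P : Subgroup G) ≤ centralizer (N : Set G) := sylow_le P _ hC
  obtain ⟨⟨c, hcP⟩, hcN, hc⟩ := comm_cases (N.subgroupOf (P : Subgroup G))
    (by
      rintro ⟨z, hz⟩ hzN ⟨x, hx⟩
      exact Subtype.ext ((mem_centralizer_iff.1 (hPC hx)) z hzN))
    (by
      rintro ⟨z, hz⟩ hzN
      exact Subtype.ext (hN2 z hzN)) hidx
  rw [mem_subgroupOf] at hcN
  change c ∈ N at hcN
  have hcc := hN2 c hcN
  have hle : ⁅(P : Subgroup G), (P : Subgroup G)⁆ ≤ zpowers c := by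
    rw [commutator_le]
    intro x hx y hy
    rcases hc ⟨x, hx⟩ ⟨y, hy⟩ with h | h
    · have h1 : x * y = y * x := congrArg Subtype.val h
      rw [commutatorElement_eq_one_iff_mul_comm.2 h1]
      exact one_mem _
    · have h1 : x * y = c * (y * x) := congrArg Subtype.val h
      have h2 : ⁅x, y⁆ = c := by
        rw [commutatorElement_def, h1]
        group
      rw [h2]
      exact mem_zpowers c
  have hcN' : zpowers c ≤ N := zpowers_le.2 hcN
  have hnorm : (⁅(P : Subgroup G), (P : Subgroup G)⁆ : Subgroup G).Normal := by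
    rw [← normalizer_eq_top_iff, eq_top_iff, ← P.normalizer_sup_eq_top' hPC, sup_le_iff]
    constructor
    · have key : ∀ g ∈ normalizer ((P : Subgroup G) : Set G), ∀ x ∈ ⁅(P : Subgroup G), (P : Subgroup G)⁆,
          g * x * g⁻¹ ∈ ⁅(P : Subgroup G), (P : Subgroup G)⁆ := by
        intro g hg x hx
        have h1 : (P : Subgroup G).map (MulAut.conj g).toMonoidHom ≤ P := by
          rintro _ ⟨y, hy, rfl⟩
          exact (mem_normalizer_iff.1 hg y).1 hy
        have h2 : (⁅(P : Subgroup G), (P : Subgroup G)⁆).map (MulAut.conj g).toMonoidHom ≤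
            ⁅(P : Subgroup G), (P : Subgroup G)⁆ := by
          rw [map_commutator]
          exact commutator_mono h1 h1
        exact h2 ⟨x, hx, rfl⟩
      intro g hg
      rw [mem_normalizer_iff]
      intro x
      refine ⟨key g hg x, fun h => ?_⟩
      have h3 := key g⁻¹ (inv_mem hg) _ h
      have h4 : g⁻¹ * (g * x * g⁻¹) * g⁻¹⁻¹ = x := by group
      rwa [h4] at h3
    · intro g hg
      rw [mem_normalizer_iff]
      have h3 : ∀ x ∈ N, g * x * g⁻¹ = x := by
        intro x hx
        rw [← (mem_centralizer_iff.1 hg) x hx, mul_inv_cancel_right]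
      intro x
      constructor
      · intro h
        rwa [h3 x (hcN' (hle h))]
      · intro h
        have h4 : g * x * g⁻¹ ∈ N := hcN' (hle h)
        have h5 : x ∈ N := by
          have := hN.conj_mem _ h4 g⁻¹
          have h6 : g⁻¹ * (g * x * g⁻¹) * g⁻¹⁻¹ = x := by group
          rwa [h6] at this
        rwa [h3 x h5] at h
  have hbot : (⁅(P : Subgroup G), (P : Subgroup G)⁆ : Subgroup G) = ⊥ := by
    by_contra hne
    have h1 := hmin _ hnorm (hle.trans hcN') hne
    rw [h1] at hle
    have h2 : Nat.card N ≤ Nat.card (zpowers c) := card_le_of_le hle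
    have h3 : Nat.card (zpowers c) ≤ 2 := by
      rw [Nat.card_zpowers]
      exact Nat.le_of_dvd (by norm_num) (orderOf_dvd_of_pow_eq_one (by rw [pow_two, hcc]))
    omega
  intro x hx y hy
  rw [commutator_eq_bot_iff_le_centralizer] at hbot
  exact (mem_centralizer_iff.1 (hbot hy)) x hx

/-- **Two classes of 2-elements outside `N`** -/
theorem exists_not_conj (P : Sylow 2 G) (N : Subgroup G) [hN : N.Normal] (hNP : N ≤ (P : Subgroup G))
    (hidx : N.relIndex (P : Subgroup G) = 4) (h2N : 2 ∣ Nat.card N)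
    (hc : ∀ x ∈ (P : Subgroup G), ∀ y ∈ (P : Subgroup G), x * y = y * x) :
    ∃ x ∈ (P : Subgroup G), ∃ y ∈ (P : Subgroup G), x ∉ N ∧ y ∉ N ∧ ¬ IsConj x y := by
  classical
  have : Fact (Nat.Prime 2) := ⟨Nat.prime_two⟩
  have hcard : Nat.card (P : Subgroup G) = 4 * Nat.card N := by
    have h1 := (N.subgroupOf (P : Subgroup G)).card_mul_index
    rw [Nat.card_congr (subgroupOfEquivOfLe hNP).toEquiv] at h1
    change Nat.card N * N.relIndex (P : Subgroup G) = _ at h1
    rw [hidx] at h1
    rw [← h1, mul_comm]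
  have hNpos : 0 < Nat.card N := Nat.card_pos
  -- the set `P \ N`
  have hS : (((P : Subgroup G) : Set G) \ (N : Set G)).ncard = 3 * Nat.card N := by
    rw [Set.ncard_sdiff (show (N : Set G) ⊆ ((P : Subgroup G) : Set G) from hNP)]
    have h1 : ((P : Subgroup G) : Set G).ncard = Nat.card (P : Subgroup G) := rfl
    have h2 : (N : Set G).ncard = Nat.card N := rfl
    omega
  obtain ⟨x, hxP, hxN⟩ : ∃ x ∈ (P : Subgroup G), x ∉ N := by
    by_contra hcon
    push Not at hcon
    have h1 : (((P : Subgroup G) : Set G) \ (N : Set G)) = ∅ := Set.sdiff_eq_empty.2 hcon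
    rw [h1, Set.ncard_empty] at hS
    omega
  by_contra hcon
  push Not at hcon
  have hPN : (P : Subgroup G) ≤ normalizer ((P : Subgroup G) : Set G) := le_normalizer
  let x' : ↥(normalizer ((P : Subgroup G) : Set G)) := ⟨x, hPN hxP⟩
  have hPab : IsMulCommutative (P : Subgroup G) := ⟨⟨fun a b => Subtype.ext (hc a a.2 b b.2)⟩⟩
  -- the class of `x` in `N_G(P)`
  have h1 : (Subtype.val '' {y : ↥(normalizer ((P : Subgroup G) : Set G)) | IsConj x' y}) =
      (((P : Subgroup G) : Set G) \ (N : Set G)) := by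
    ext y
    constructor
    · rintro ⟨y, hy, rfl⟩
      obtain ⟨n, hn⟩ := isConj_iff.1 hy
      have h2 : (y : G) = n * x * (n : G)⁻¹ := (congrArg Subtype.val hn).symm
      refine ⟨?_, ?_⟩
      · rw [h2]
        exact (mem_normalizer_iff.1 n.2 x).1 hxP
      · intro h3
        apply hxN
        have h4 := hN.conj_mem _ h3 (n : G)⁻¹
        have h5 : (n : G)⁻¹ * y * (n : G)⁻¹⁻¹ = x := by rw [h2]; group
        rwa [h5] at h4
    · rintro ⟨hyP, hyN⟩
      obtain ⟨g, hg⟩ := isConj_iff.1 (hcon x hxP y hyP hxN hyN)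
      have h2 : g⁻¹⁻¹ * x * g⁻¹ = y := by rw [inv_inv, hg]
      obtain ⟨n, hn, hn'⟩ := P.conj_eq_normalizer_conj_of_mem x g⁻¹ hxP (h2 ▸ hyP)
      rw [h2] at hn'
      refine ⟨⟨y, hPN hyP⟩, ?_, rfl⟩
      refine isConj_iff.2 ⟨⟨n, hn⟩⁻¹, Subtype.ext ?_⟩
      show (n : G)⁻¹ * x * (n⁻¹)⁻¹ = y
      rw [inv_inv, hn']
  have h2 := Blocks.Basic.index_centralizer_eq_ncard x'
  rw [← Set.ncard_image_of_injective _ Subtype.val_injective, h1, hS] at h2
  have h3 : (P : Subgroup G).subgroupOf (normalizer ((P : Subgroup G) : Set G)) ≤ centralizer {x'} := by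
    intro y hy
    exact mem_centralizer_singleton_iff.2 (Subtype.ext (hc y hy x hxP))
  have h4 := index_dvd_of_le h3
  have h5 : ((P : Subgroup G).subgroupOf (normalizer ((P : Subgroup G) : Set G))).index ∣ (P : Subgroup G).index :=
    ⟨_, (relIndex_mul_index hPN).symm⟩
  apply P.not_dvd_index
  refine dvd_trans ?_ (h4.trans h5)
  rw [h2]
  exact h2N.mul_left 3

end Group

section Block

variable {G : Type u} [Group G] [Finite G] {M : Ideal AlgInt}

/-- `k(B₀) = 5`, `8 ∣ |G|`: some degree is even. -/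
theorem false_of_allOdd (hM : IsPModular 2 M) (h : Five M G) (h8 : 8 ∣ Nat.card G)
    (ho : H590.OddPrincipal.AllOdd M G) : False := by
  have h1 := H703.Lat.dvd_sum_sq hM (H703.Lat.good_principal (G := G) hM) (a := 3) (by simpa using h8)
  have hcard : (H703.Lat.B0 M G).card = 5 := by
    have := Characters.Core.finite_irr (G := G)
    rw [← h.card, H703.Lat.B0, ← Set.ncard_eq_toFinset_card _ (Set.toFinite _)]
    rfl
  have h2 : ∑ χ ∈ H703.Lat.B0 M G, (charDegree (χ : G → ℂ) : ℤ) ^ 2 ≡ ∑ χ ∈ H703.Lat.B0 M G, (1 : ℤ) [ZMOD 8] := by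
    refine Int.ModEq.sum fun χ hχ => ?_
    have h3 := ho χ (H703.Lat.mem_B0.1 hχ)
    obtain ⟨m, hm⟩ := h3
    rw [hm]
    show (((2 * m + 1 : ℕ) : ℤ)) ^ 2 % 8 = 1 % 8
    have h5 : (((2 * m + 1 : ℕ) : ℤ)) ^ 2 = 4 * ((m : ℤ) * (m + 1)) + 1 := by push_cast; ring
    obtain ⟨c, hc⟩ := (Int.even_mul_succ_self (m : ℤ)).two_dvd
    rw [h5, hc]
    omega
  rw [Finset.sum_const, hcard] at h2
  have h4 : (∑ χ ∈ H703.Lat.B0 M G, (charDegree (χ : G → ℂ) : ℤ) ^ 2) % 8 = 5 := h2
  have h5 : (∑ χ ∈ H703.Lat.B0 M G, (charDegree (χ : G → ℂ) : ℤ) ^ 2) % 8 = 0 := Int.emod_eq_zero_of_dvd (by simpa using h1)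
  omega

/-- No normal abelian subgroup of odd index. -/
theorem false_of_normal (hM : IsPModular 2 M) (h : Five M G) (h8 : 8 ∣ Nat.card G) (A : Subgroup G) [A.Normal]
    (hc : ∀ a ∈ A, ∀ b ∈ A, a * b = b * a) (hodd : ¬ 2 ∣ A.index) : False :=
  false_of_allOdd hM h h8 (H590.OddPrincipal.AllOdd.of_normal hM A (Nat.not_even_iff_odd.1 fun h => hodd h.two_dvd)
    (H590.OddPrincipal.allOdd_of_comm fun a b => Subtype.ext (hc a a.2 b b.2)))

theorem card_principal (hM : IsPModular 2 M) (N : Subgroup G) [N.Normal] (hN : IsPGroup 2 N)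
    (hC : centralizer (N : Set G) ≤ N) : Nat.card (principalBlock M G) = Nat.card (ConjClasses G) := by
  have h1 : principalBlock M G = Set.univ := by
    rw [Set.eq_univ_iff_forall]
    intro χ
    exact (Blocks.UniqueBlock.sameBlock_of_centralizer_le hM N hN hC ⟨fun _ => 1, Characters.Core.isIrr_one⟩ χ)
  rw [h1, Nat.card_congr (Equiv.Set.univ (IrrCharacter G)), Characters.Core.card_irr]

theorem card_conjClasses_quot_lt (N : Subgroup G) [N.Normal] (hN : N ≠ ⊥) :
    Nat.card (ConjClasses (G ⧸ N)) < Nat.card (ConjClasses G) := by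
  obtain ⟨n, hn1⟩ := Subgroup.ne_bot_iff_exists_ne_one.1 hN
  have hsurj : Function.Surjective (ConjClasses.map (QuotientGroup.mk' N)) :=
    ConjClasses.map_surjective (QuotientGroup.mk'_surjective N)
  refine lt_of_le_of_ne (Nat.card_le_card_of_surjective _ hsurj) fun heq => ?_
  have hinj : Function.Injective (ConjClasses.map (QuotientGroup.mk' N)) :=
    ((Nat.bijective_iff_surjective_and_card _).2 ⟨hsurj, heq.symm⟩).1
  · have h1 : ConjClasses.map (QuotientGroup.mk' N) (ConjClasses.mk (n : G)) =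
        ConjClasses.map (QuotientGroup.mk' N) (ConjClasses.mk (1 : G)) := by
      show ConjClasses.mk (QuotientGroup.mk' N n) = ConjClasses.mk (QuotientGroup.mk' N 1)
      have h2 : QuotientGroup.mk' N (n : G) = QuotientGroup.mk' N 1 := by
        rw [map_one]
        exact (QuotientGroup.eq_one_iff _).2 n.2
      rw [h2]
    have h3 := ConjClasses.mk_eq_mk_iff_isConj.1 (hinj h1)
    exact hn1 (Subtype.ext (isConj_one_left.1 h3))

theorem pCore_quot (N : Subgroup G) [hNn : N.Normal]
    (hmin : ∀ K : Subgroup G, K.Normal → K ≤ N → K ≠ ⊥ → K = N) (hNe : N ≠ ⊥) (hN : IsPGroup 2 N)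
    (hC : centralizer (N : Set G) ≤ N) : pCore 2 (G ⧸ N) = ⊥ := by
  have : Fact (Nat.Prime 2) := ⟨Nat.prime_two⟩
  have hn := Lib.Cores.pCore_normal (G := G ⧸ N) 2
  have hK : IsPGroup 2 ((pCore 2 (G ⧸ N)).comap (QuotientGroup.mk' N)) := by
    refine (Lib.Cores.pCore_isPGroup (G := G ⧸ N) 2).comap_of_ker_isPGroup _ ?_
    rwa [QuotientGroup.ker_mk']
  have hNK : N ≤ (pCore 2 (G ⧸ N)).comap (QuotientGroup.mk' N) := by
    intro x hx
    rw [mem_comap]
    have h1 : QuotientGroup.mk' N x = 1 := (QuotientGroup.eq_one_iff _).2 hx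
    rw [h1]
    exact one_mem _
  have h1 := SolvableStructure.KegelNormal.centralizer_inf_ne_bot _ N hK hNK hNe
  have h2 := hmin _ inferInstance inf_le_right h1
  have h3 : (pCore 2 (G ⧸ N)).comap (QuotientGroup.mk' N) ≤ N := by
    intro x hx
    apply hC
    rw [mem_centralizer_iff]
    intro y hy
    have h4 : y ∈ centralizer (((pCore 2 (G ⧸ N)).comap (QuotientGroup.mk' N) : Subgroup G) : Set G) ⊓ N := by
      rw [h2]
      exact hy
    exact (mem_centralizer_iff.1 h4.1 x hx).symm
  rw [eq_bot_iff]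
  intro q hq
  obtain ⟨x, rfl⟩ := QuotientGroup.mk'_surjective N q
  exact mem_bot.2 ((QuotientGroup.eq_one_iff _).2 (h3 hq))

/-- **RED-A** -/
theorem redA (hM : IsPModular 2 M) (h : Five M G) (h16 : 16 ∣ Nat.card G) (hcore : pPrimeCore 2 G = ⊥)
    (hNI : ∀ H : Subgroup G, H.index ≠ 2) : pCore 2 G = ⊥ := by
  classical
  by_contra hO
  have : Fact (Nat.Prime 2) := ⟨Nat.prime_two⟩
  have h8 : 8 ∣ Nat.card G := dvd_trans (by norm_num) h16
  have hni : ∀ (K : Subgroup G) [K.Normal], K.index % 4 ≠ 2 := fun K _ hK => by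
    obtain ⟨H, hH⟩ := exists_index_two K hK
    exact hNI H hH
  obtain ⟨N, hNn, hNO, hNe, hmin⟩ := SolvableStructure.KegelNormal.exists_minimal_normal_le (pCore 2 G)
    (Lib.Cores.pCore_normal 2) hO
  have hN2 : IsPGroup 2 N := (Lib.Cores.pCore_isPGroup (G := G) 2).to_le hNO
  -- `N` is abelian
  have hNc : ∀ a ∈ N, ∀ b ∈ N, a * b = b * a := by
    have h1 := SolvableStructure.KegelNormal.centralizer_inf_ne_bot N N hN2 le_rfl hNe
    have h2 := hmin _ inferInstance inf_le_right h1
    intro a ha b hb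
    rw [← h2] at ha
    exact (mem_centralizer_iff.1 ha.1 b hb).symm
  -- of exponent 2
  have hNe2 : ∀ a ∈ N, a * a = 1 := by
    let E : Subgroup G :=
      { carrier := {x | x ∈ N ∧ x * x = 1}
        one_mem' := ⟨N.one_mem, mul_one 1⟩
        mul_mem' := by
          rintro a b ⟨ha, ha'⟩ ⟨hb, hb'⟩
          refine ⟨N.mul_mem ha hb, ?_⟩
          calc a * b * (a * b) = a * (b * a) * b := by group
            _ = a * (a * b) * b := by rw [hNc b hb a ha]
            _ = (a * a) * (b * b) := by group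
            _ = 1 := by rw [ha', hb', one_mul]
        inv_mem' := by
          rintro a ⟨ha, ha'⟩
          refine ⟨N.inv_mem ha, ?_⟩
          rw [← mul_inv_rev, ha', inv_one] }
    have hE : ∀ x, x ∈ E ↔ x ∈ N ∧ x * x = 1 := fun x => Iff.rfl
    have hEn : E.Normal := by
      constructor
      rintro x ⟨hx, hx'⟩ g
      refine ⟨hNn.conj_mem x hx g, ?_⟩
      calc g * x * g⁻¹ * (g * x * g⁻¹) = g * (x * x) * g⁻¹ := by group
        _ = 1 := by rw [hx', mul_one, mul_inv_cancel]
    have hEb : E ≠ ⊥ := by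
      have hd : 2 ∣ Nat.card N := by
        obtain ⟨k, hk⟩ := IsPGroup.iff_card.1 hN2
        rcases Nat.eq_zero_or_pos k with rfl | hpos
        · rw [pow_zero] at hk
          exact absurd (card_eq_one.1 hk) hNe
        · rw [hk]
          exact dvd_pow_self 2 hpos.ne'
      obtain ⟨x, hx⟩ := exists_prime_orderOf_dvd_card' (G := N) 2 hd
      intro hb
      have h1 : (x : G) ∈ E := ⟨x.2, by
        have h2 := pow_orderOf_eq_one x
        rw [hx, pow_two] at h2
        exact congrArg Subtype.val h2⟩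
      rw [hb, mem_bot] at h1
      have h2 : x = 1 := Subtype.ext h1
      rw [h2, orderOf_one] at hx
      norm_num at hx
    have h1 := hmin E hEn (fun x hx => hx.1) hEb
    intro a ha
    rw [← h1] at ha
    exact ha.2
  obtain ⟨-, hq8⟩ := H126.K5.quot hM h.card hcore N hNe
  by_cases hodd : 2 ∣ N.index
  swap
  · exact false_of_normal hM h h8 N hNc hodd
  have h4 : 4 ∣ N.index := by
    have := hni N
    omega
  -- a Sylow 2-subgroup
  obtain ⟨P⟩ : Nonempty (Sylow 2 G) := inferInstance
  have hNP : N ≤ (P : Subgroup G) := hN2.le_sylow_of_normal P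
  have hrel : N.relIndex (P : Subgroup G) = 4 := by
    have h1 := relIndex_mul_index hNP
    have h2 : N.relIndex (P : Subgroup G) ∣ Nat.card (P : Subgroup G) := N.relIndex_dvd_card P
    obtain ⟨k, hk⟩ := IsPGroup.iff_card.1 P.isPGroup'
    rw [hk] at h2
    obtain ⟨j, -, hj⟩ := (Nat.dvd_prime_pow Nat.prime_two).1 h2
    have h3 := P.not_dvd_index
    rw [hj] at h1 ⊢
    match j, h1 with
    | 0, h1 => rw [pow_zero, one_mul] at h1; rw [← h1] at hodd; exact absurd hodd h3
    | 1, h1 => rw [pow_one] at h1; omega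
    | 2, _ => norm_num
    | j + 3, h1 =>
      exfalso
      rw [pow_add] at h1
      exact hq8 ⟨2 ^ j * (P : Subgroup G).index, by rw [← h1]; ring⟩
  have hcardP : Nat.card (P : Subgroup G) = 4 * Nat.card N := by
    have h1 := (N.subgroupOf (P : Subgroup G)).card_mul_index
    rw [Nat.card_congr (subgroupOfEquivOfLe hNP).toEquiv] at h1
    change Nat.card N * N.relIndex (P : Subgroup G) = _ at h1
    rw [hrel] at h1
    rw [← h1, mul_comm]
  have hN4 : 4 ∣ Nat.card N := by
    have h1 : 16 ∣ Nat.card (P : Subgroup G) := by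
      have h2 : 2 ^ 4 ∣ Nat.card G := by simpa using h16
      simpa using P.pow_dvd_card_of_pow_dvd_card h2
    rw [hcardP] at h1
    omega
  have hN2' : 2 < Nat.card N := by
    have := Nat.le_of_dvd Nat.card_pos hN4
    omega
  have hNC : N ≤ centralizer (N : Set G) := fun a ha => mem_centralizer_iff.2 fun b hb => hNc b hb a ha
  by_cases hC2 : 2 ∣ (centralizer (N : Set G)).index
  · -- `C_G(N) = N`
    have hC4 : 4 ∣ (centralizer (N : Set G)).index := by
      have := hni (centralizer (N : Set G))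
      omega
    have hCN : centralizer (N : Set G) ≤ N := by
      refine SylowL5.Quot.centralizer_le_of_normal hcore P N hNn fun s hs hsN => ?_
      have h1 : (centralizer (N : Set G)).relIndex (P : Subgroup G) * (centralizer (N : Set G) ⊔ P).index =
          (centralizer (N : Set G)).index := by
        rw [← relIndex_mul_index (show centralizer (N : Set G) ≤ centralizer (N : Set G) ⊔ P from le_sup_left),
          relIndex_sup_left]
      have h2 : (centralizer (N : Set G) ⊔ P).index ∣ (P : Subgroup G).index := index_dvd_of_le le_sup_right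
      have h3 : Nat.Coprime 4 (centralizer (N : Set G) ⊔ P).index := by
        have h4 : ¬ 2 ∣ (centralizer (N : Set G) ⊔ P).index := fun h => P.not_dvd_index (h.trans h2)
        have h5 : Nat.Coprime 2 (centralizer (N : Set G) ⊔ P).index := (Nat.prime_two.coprime_iff_not_dvd).2 h4
        exact Nat.Coprime.pow_left 2 h5
      have h4' : 4 ∣ (centralizer (N : Set G)).relIndex (P : Subgroup G) := by
        rw [← h1] at hC4
        exact h3.dvd_of_dvd_mul_right hC4
      have h5 := relIndex_mul_relIndex N _ _ (le_inf hNC hNP)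
        (inf_le_right : centralizer (N : Set G) ⊓ (P : Subgroup G) ≤ (P : Subgroup G))
      rw [inf_relIndex_right, hrel] at h5
      obtain ⟨m, hm⟩ := h4'
      rw [hm] at h5
      have h6 : N.relIndex (centralizer (N : Set G) ⊓ (P : Subgroup G)) = 1 := by
        have h7 : N.relIndex (centralizer (N : Set G) ⊓ (P : Subgroup G)) * m = 1 := by linarith
        exact Nat.eq_one_of_mul_eq_one_right h7
      exact relIndex_eq_one.1 h6 ⟨mem_centralizer_iff.2 fun q hq => (hsN q hq).symm, hs⟩
    have hk := card_principal hM N hN2 hCN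
    have h5 := card_conjClasses_quot_lt N hNe
    rw [← hk, h.card] at h5
    refine H261.K5.KFour.kfour (G := G ⧸ N) ?_ (by omega) (pCore_quot N hmin hNe hN2 hCN)
    rw [← index_eq_card]
    exact h4
  · -- `P` is abelian
    have hPc := sylow_comm P N hmin hN2' hNe2 hC2 hrel
    obtain ⟨x, hxP, y, hyP, hxN, hyN, hxy⟩ := exists_not_conj P N hNP hrel (dvd_trans (by norm_num) hN4) hPc
    obtain ⟨z, hz1⟩ := Subgroup.ne_bot_iff_exists_ne_one.1 hNe
    have hel : ∀ a ∈ (P : Subgroup G), a ≠ 1 → El a := by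
      intro a ha ha1
      refine ⟨?_, ha1⟩
      obtain ⟨k, hk⟩ := P.isPGroup' ⟨a, ha⟩
      obtain ⟨j, -, hj⟩ := (Nat.dvd_prime_pow Nat.prime_two).1
        (orderOf_dvd_of_pow_eq_one (show a ^ 2 ^ k = 1 from congrArg Subtype.val hk))
      exact ⟨j, hj⟩
    have hzc : ∀ a : G, a ∉ N → ¬ IsConj a (z : G) := by
      intro a ha hc
      obtain ⟨g, hg⟩ := isConj_iff.1 hc
      apply ha
      have h1 := hNn.conj_mem _ z.2 g⁻¹
      have h2 : g⁻¹ * (z : G) * g⁻¹⁻¹ = a := by rw [← hg]; group
      rwa [h2] at h1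
    have hxy' : x ≠ y := fun e => hxy (e ▸ IsConj.refl x)
    have hxz : x ≠ z := fun e => hxN (e ▸ z.2)
    have hyz : y ≠ z := fun e => hyN (e ▸ z.2)
    have hw := h.sum_wt_le hM {x, y, (z : G)}
      (by
        intro a ha
        simp only [Finset.mem_insert, Finset.mem_singleton] at ha
        rcases ha with rfl | rfl | rfl
        · exact hel _ hxP fun e => hxN (e ▸ N.one_mem)
        · exact hel _ hyP fun e => hyN (e ▸ N.one_mem)
        · exact hel _ (hNP z.2) fun e => hz1 (Subtype.ext e))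
      (by
        intro a ha b hb hab
        simp only [Finset.mem_insert, Finset.mem_singleton] at ha hb
        rcases ha with rfl | rfl | rfl <;> rcases hb with rfl | rfl | rfl
        · rfl
        · exact absurd hab hxy
        · exact absurd hab (hzc _ hxN)
        · exact absurd hab.symm hxy
        · rfl
        · exact absurd hab (hzc _ hyN)
        · exact absurd hab.symm (hzc _ hxN)
        · exact absurd hab.symm (hzc _ hyN)
        · rfl)
    rw [Finset.sum_insert (by simp [hxy', hxz]), Finset.sum_insert (by simp [hyz]), Finset.sum_singleton] at hw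
    have hwz : HasNormalPComplement 2 ↥(centralizer ({(z : G)} : Set G)) := by
      by_contra hn
      have h1 := wt_eq_two hn
      have h2 := one_le_wt x
      have h3 := one_le_wt y
      omega
    have hle : centralizer (N : Set G) ≤ centralizer ({(z : G)} : Set G) :=
      centralizer_le (Set.singleton_subset_iff.2 z.2)
    have hC := H634.ZJ.hasNormalPComplement_of_injective (inclusion hle) (inclusion_injective hle) hwz
    obtain ⟨k, hk⟩ := H30.OneClass.index_pPrimeCore hC
    have hbot : pPrimeCore 2 ↥(centralizer (N : Set G)) = ⊥ := by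
      have h1 := Lib.Cores.map_subtype_pPrimeCore 2 (inferInstance : (centralizer (N : Set G)).Normal)
      rw [hcore, inf_bot_eq] at h1
      exact (Subgroup.map_eq_bot_iff_of_injective _ (centralizer (N : Set G)).subtype_injective).1 h1
    rw [hbot, index_bot] at hk
    have hC2g : IsPGroup 2 ↥(centralizer (N : Set G)) := IsPGroup.of_card hk
    have hCP : centralizer (N : Set G) ≤ P := hC2g.le_sylow_of_normal P
    exact false_of_normal hM h h8 (centralizer (N : Set G)) (fun a ha b hb => hPc a (hCP ha) b (hCP hb)) hC2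

end Block

end Cfsg.Agent.H583.K5
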